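import Mathlib
import Cfsg.Prelude.Def_PLocal
import Cfsg.Prelude.Def_LocalEven

/-!
# Sections isomorphic to `Qd(p)`

Tools to show that `Qd(p)` is not involved in a group: abelian Sylow `p`-subgroups, or all
`p`-local subgroups having a `p`-group as commutator subgroup.
-/

set_option autoImplicit false

namespace CfsgLib.QdFree

open Matrix
open scoped commutatorElement

section Sections

variable {G H : Type*} [Group G] [Group H]

/-- An involved group is the image of a subgroup. -/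
theorem exists_surjective_of_involves (h : Cfsg.Involves H G) :
    ∃ (K : Subgroup G) (f : ↥K →* H), Function.Surjective f := by
  obtain ⟨K, R, hR, ⟨e⟩⟩ := h
  exact ⟨K, e.toMonoidHom.comp (QuotientGroup.mk' (R.subgroupOf K)),
    e.surjective.comp (QuotientGroup.mk'_surjective _)⟩

/-- An involved group in a quotient is the image of a subgroup of the group itself. -/
theorem exists_surjective_of_involves_quotient (N : Subgroup G) [N.Normal]
    (h : Cfsg.Involves H (G ⧸ N)) :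
    ∃ (K : Subgroup G) (f : ↥K →* H), Function.Surjective f := by
  obtain ⟨K, f, hf⟩ := exists_surjective_of_involves h
  let g : ↥(K.comap (QuotientGroup.mk' N)) →* ↥K :=
    ((QuotientGroup.mk' N).comp (K.comap (QuotientGroup.mk' N)).subtype).codRestrict K
      (fun x => x.2)
  refine ⟨K.comap (QuotientGroup.mk' N), f.comp g, hf.comp ?_⟩
  rintro ⟨y, hy⟩
  obtain ⟨x, rfl⟩ := QuotientGroup.mk'_surjective N y
  exact ⟨⟨x, hy⟩, rfl⟩

/-- A `p`-subgroup of a homomorphic image of a finite group lifts to a `p`-subgroup. -/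
theorem exists_pGroup_map_eq [Finite G] {p : ℕ} [Fact p.Prime] (f : G →* H)
    (hf : Function.Surjective f) (Q : Subgroup H) (hQ : IsPGroup p Q) :
    ∃ P : Subgroup G, IsPGroup p P ∧ P.map f = Q := by
  have : Finite H := Finite.of_surjective f hf
  let g : ↥(Q.comap f) →* ↥Q := (f.comp (Q.comap f).subtype).codRestrict Q (fun x => x.2)
  have hg : Function.Surjective g := by
    rintro ⟨y, hy⟩
    obtain ⟨x, rfl⟩ := hf y
    exact ⟨⟨x, hy⟩, rfl⟩
  obtain ⟨P, hP⟩ := Sylow.mapSurjective_surjective hg p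
    ⟨⊤, hQ.of_equiv Subgroup.topEquiv.symm, fun {_} _ h => top_le_iff.1 h⟩
  refine ⟨(P : Subgroup ↥(Q.comap f)).map (Q.comap f).subtype, P.isPGroup'.map _, ?_⟩
  have h2 : (P : Subgroup ↥(Q.comap f)).map g = ⊤ := congrArg Sylow.toSubgroup hP
  have h3 := congrArg (Subgroup.map Q.subtype) h2
  rw [Subgroup.map_map, ← MonoidHom.range_eq_map, Subgroup.range_subtype] at h3
  rw [Subgroup.map_map]
  exact h3

end Sections

section Qd

variable {p : ℕ}

/-- The last row of an element of `qd p` is `(0, 0, 1)`. -/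
theorem lastRow (M : ↥(Cfsg.qd p)) :
    M.1.1 2 0 = 0 ∧ M.1.1 2 1 = 0 ∧ M.1.1 2 2 = 1 := by
  obtain ⟨M, hM⟩ := M
  refine Subgroup.closure_induction (p := fun x _ => x.1 2 0 = 0 ∧ x.1 2 1 = 0 ∧ x.1 2 2 = 1)
    (fun x hx => hx) ?_ ?_ ?_ hM
  · simp [Subgroup.coe_one, Matrix.SpecialLinearGroup.coe_one]
  · intro x y _ _ hx hy
    simp [Subgroup.coe_mul, Matrix.SpecialLinearGroup.coe_mul, Matrix.mul_apply, Fin.sum_univ_three, hx, hy]
  · intro x _ hx
    have h1 : x.1 * (x⁻¹).1 = 1 := congrArg Subtype.val (mul_inv_cancel x)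
    have h := fun j => congrFun (congrFun h1 2) j
    simp only [Matrix.mul_apply, Fin.sum_univ_three, hx, zero_mul, one_mul, zero_add] at h
    exact ⟨by rw [h 0]; rfl, by rw [h 1]; rfl, by rw [h 2]; rfl⟩

/-- The upper left block, as a monoid homomorphism `qd p →* M₂(ZMod p)`. -/
def block : ↥(Cfsg.qd p) →* Matrix (Fin 2) (Fin 2) (ZMod p) where
  toFun M := Matrix.of fun i j => M.1.1 i.castSucc j.castSucc
  map_one' := by
    ext i j
    fin_cases i <;> fin_cases j <;> simp [Subgroup.coe_one, Matrix.SpecialLinearGroup.coe_one, Matrix.one_apply]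
  map_mul' M N := by
    obtain ⟨h0, h1, -⟩ := lastRow N
    ext i j
    fin_cases i <;> fin_cases j <;>
      simp [Subgroup.coe_mul, Matrix.SpecialLinearGroup.coe_mul, Matrix.mul_apply, Fin.sum_univ_three,
        Fin.sum_univ_two, h0, h1]

@[simp] theorem block_apply (M : ↥(Cfsg.qd p)) (i j : Fin 2) :
    block M i j = M.1.1 i.castSucc j.castSucc := rfl

/-- The element of `qd p` with block `!![a, b; c, d]` and translation part `(s, t)`. -/
def mkQd (a b c d s t : ZMod p) (h : a * d - b * c = 1) : ↥(Cfsg.qd p) :=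
  ⟨(⟨!![a, b, s; c, d, t; 0, 0, 1], by simp [Matrix.det_fin_three, h]⟩ :
      Matrix.SpecialLinearGroup (Fin 3) (ZMod p)),
    Subgroup.subset_closure
      (show (!![a, b, s; c, d, t; 0, 0, 1] : Matrix (Fin 3) (Fin 3) (ZMod p)) 2 0 = 0 ∧
        (!![a, b, s; c, d, t; 0, 0, 1] : Matrix (Fin 3) (Fin 3) (ZMod p)) 2 1 = 0 ∧
        (!![a, b, s; c, d, t; 0, 0, 1] : Matrix (Fin 3) (Fin 3) (ZMod p)) 2 2 = 1 by simp)⟩

theorem val_mkQd (a b c d s t : ZMod p) (h : a * d - b * c = 1) :
    (mkQd a b c d s t h).1.1 = !![a, b, s; c, d, t; 0, 0, 1] := rfl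

theorem block_mkQd (a b c d s t : ZMod p) (h : a * d - b * c = 1) :
    block (mkQd a b c d s t h) = !![a, b; c, d] := by
  ext i j
  fin_cases i <;> fin_cases j <;> simp [val_mkQd]

/-- The translation subgroup. -/
def translations (p : ℕ) : Subgroup ↥(Cfsg.qd p) := (block (p := p)).ker

instance translations_normal (p : ℕ) : (translations p).Normal :=
  inferInstanceAs (block (p := p)).ker.Normal

/-- Upper unitriangular elements have order dividing `p`. -/
theorem pow_eq_one_of_unitri [Fact p.Prime] (hp : p ≠ 2) (M : ↥(Cfsg.qd p))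
    (h00 : M.1.1 0 0 = 1) (h11 : M.1.1 1 1 = 1) (h10 : M.1.1 1 0 = 0) : M ^ p = 1 := by
  obtain ⟨h0, h1, h2⟩ := lastRow M
  apply Subtype.ext
  apply Subtype.ext
  rw [SubmonoidClass.coe_pow, Matrix.SpecialLinearGroup.coe_pow]
  have hd : M.1.1 ^ p - 1 = (M.1.1 - 1) ^ p := by
    rw [sub_pow_char_of_commute p (Commute.one_right _), one_pow]
  have h3 : (M.1.1 - 1) ^ 3 = 0 := by
    have hN : M.1.1 - 1 = !![0, M.1.1 0 1, M.1.1 0 2; 0, 0, M.1.1 1 2; 0, 0, 0] := by
      ext i j
      fin_cases i <;> fin_cases j <;> simp [h00, h11, h10, h0, h1, h2]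
    rw [hN, pow_three]
    ext i j
    fin_cases i <;> fin_cases j <;> simp [Matrix.mul_apply, Fin.sum_univ_three]
  have h3p : 3 ≤ p := by
    have := (Fact.out : p.Prime).two_le
    omega
  rw [pow_eq_zero_of_le h3p h3, sub_eq_zero] at hd
  exact hd

/-- The upper unitriangular subgroup of `qd p`. -/
def unitri (p : ℕ) [Fact p.Prime] : Subgroup ↥(Cfsg.qd p) where
  carrier := {M | M.1.1 0 0 = 1 ∧ M.1.1 1 1 = 1 ∧ M.1.1 1 0 = 0}
  one_mem' := by simp [Subgroup.coe_one, Matrix.SpecialLinearGroup.coe_one]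
  mul_mem' {M N} hM hN := by
    obtain ⟨h0, h1, -⟩ := lastRow N
    obtain ⟨a, b, c⟩ := hM
    obtain ⟨a', b', c'⟩ := hN
    simp [Subgroup.coe_mul, Matrix.SpecialLinearGroup.coe_mul, Matrix.mul_apply, Fin.sum_univ_three, h0, h1, a, b,
      c, a', b', c']
  inv_mem' {M} hM := by
    obtain ⟨a, b, c⟩ := hM
    obtain ⟨h0, h1, h2⟩ := lastRow M
    have he : (M⁻¹).1.1 = Matrix.adjugate M.1.1 := by
      rw [InvMemClass.coe_inv, Matrix.SpecialLinearGroup.coe_inv]
    simp [he, Matrix.adjugate_fin_three, a, b, c, h0, h1, h2]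

theorem isPGroup_unitri [Fact p.Prime] (hp : p ≠ 2) : IsPGroup p (unitri p) := by
  rintro ⟨M, a, b, c⟩
  exact ⟨1, Subtype.ext (by simpa using pow_eq_one_of_unitri hp M a b c)⟩

theorem translations_le_unitri [Fact p.Prime] : translations p ≤ unitri p := by
  intro M hM
  have h : ∀ i j : Fin 2, M.1.1 i.castSucc j.castSucc = (1 : Matrix (Fin 2) (Fin 2) (ZMod p)) i j :=
    fun i j => by rw [← block_apply, MonoidHom.mem_ker.1 hM]
  exact ⟨h 0 0, h 1 1, h 1 0⟩

theorem translations_ne_bot [Fact p.Prime] : translations p ≠ ⊥ := by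
  intro h
  have hmem : mkQd (1 : ZMod p) 0 0 1 1 0 (by ring) ∈ translations p := by
    rw [translations, MonoidHom.mem_ker, block_mkQd, Matrix.one_fin_two]
  rw [h, Subgroup.mem_bot] at hmem
  have := congrArg (fun x : ↥(Cfsg.qd p) => x.1.1 0 2) hmem
  simp [val_mkQd, Subgroup.coe_one, Matrix.SpecialLinearGroup.coe_one] at this

/-- `qd p` has a nonabelian `p`-subgroup. -/
theorem not_commutative_unitri [Fact p.Prime] :
    ¬ ∀ a ∈ unitri p, ∀ b ∈ unitri p, a * b = b * a := by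
  intro h
  have h' := congrArg (fun x : ↥(Cfsg.qd p) => x.1.1 0 2)
    (h (mkQd (1 : ZMod p) 1 0 1 0 0 (by ring)) (by simp [unitri, val_mkQd])
      (mkQd (1 : ZMod p) 0 0 1 0 1 (by ring)) (by simp [unitri, val_mkQd]))
  simp [val_mkQd, Subgroup.coe_mul, Matrix.SpecialLinearGroup.coe_mul, Matrix.mul_apply, Fin.sum_univ_three] at h'

/-- If all `p`-subgroups of a finite group are abelian, `qd p` is not involved. -/
theorem not_involves_of_abelian {G : Type*} [Group G] [Finite G] [Fact p.Prime] (hp : p ≠ 2)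
    (hab : ∀ Q : Subgroup G, IsPGroup p Q → ∀ a ∈ Q, ∀ b ∈ Q, a * b = b * a) :
    ¬ Cfsg.Involves ↥(Cfsg.qd p) G := by
  intro h
  obtain ⟨K, f, hf⟩ := exists_surjective_of_involves h
  obtain ⟨P, hP, hPU⟩ := exists_pGroup_map_eq f hf (unitri p) (isPGroup_unitri hp)
  refine not_commutative_unitri (p := p) ?_
  rw [← hPU]
  rintro _ ⟨a, ha, rfl⟩ _ ⟨b, hb, rfl⟩
  rw [← map_mul, ← map_mul]
  congr 1
  exact Subtype.ext (hab (P.map K.subtype) (hP.map _) a.1 ⟨a, ha, rfl⟩ b.1 ⟨b, hb, rfl⟩)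

/-- In odd characteristic, two elements of `SL₂(p)` have commutator `-1`. -/
theorem exists_block_commutator [Fact p.Prime] (hp : p ≠ 2) :
    ∃ x y : ↥(Cfsg.qd p), block (x * y * x⁻¹ * y⁻¹) = -1 := by
  obtain ⟨a, b, hab⟩ := Nat.sq_add_sq_zmodEq p (-1)
  have hab' : (a : ZMod p) ^ 2 + (b : ZMod p) ^ 2 = -1 := by
    have h := (ZMod.intCast_eq_intCast_iff _ _ _).2 hab.2.2
    simpa using h
  generalize (a : ZMod p) = a, (b : ZMod p) = b at hab'
  refine ⟨mkQd 0 1 (-1) 0 0 0 (by ring), mkQd a b b (-a) 0 0 (by linear_combination -hab'), ?_⟩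
  have hxi : (mkQd (p := p) 0 1 (-1) 0 0 0 (by ring))⁻¹ = mkQd 0 (-1) 1 0 0 0 (by ring) := by
    refine inv_eq_of_mul_eq_one_right ?_
    apply Subtype.ext
    apply Subtype.ext
    ext i j
    fin_cases i <;> fin_cases j <;>
      simp [val_mkQd, Subgroup.coe_mul, Matrix.SpecialLinearGroup.coe_mul, Subgroup.coe_one, Matrix.SpecialLinearGroup.coe_one,
        Matrix.mul_apply, Fin.sum_univ_three]
  have hyi : (mkQd (p := p) a b b (-a) 0 0 (by linear_combination -hab'))⁻¹
      = mkQd (-a) (-b) (-b) a 0 0 (by linear_combination -hab') := by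
    refine inv_eq_of_mul_eq_one_right ?_
    apply Subtype.ext
    apply Subtype.ext
    ext i j
    fin_cases i <;> fin_cases j <;>
      simp [val_mkQd, Subgroup.coe_mul, Matrix.SpecialLinearGroup.coe_mul, Subgroup.coe_one, Matrix.SpecialLinearGroup.coe_one,
        Matrix.mul_apply, Fin.sum_univ_three] <;>
      grind
  rw [hxi, hyi, map_mul, map_mul, map_mul, block_mkQd, block_mkQd, block_mkQd, block_mkQd]
  ext i j
  fin_cases i <;> fin_cases j <;> simp [Matrix.mul_apply, Fin.sum_univ_two] <;>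
    grind

/-- If the normalizer of every nontrivial `p`-subgroup has a `p`-group as commutator subgroup,
then `qd p` is not a quotient of a subgroup. -/
theorem not_surjective_of_locals {G : Type*} [Group G] [Finite G] [Fact p.Prime] (hp : p ≠ 2)
    (hloc : ∀ Q N : Subgroup G, IsPGroup p Q → Q ≠ ⊥ → N ≤ Subgroup.normalizer (Q : Set G) →
      IsPGroup p ↥⁅N, N⁆)
    (K : Subgroup G) (f : ↥K →* ↥(Cfsg.qd p)) : ¬ Function.Surjective f := by
  intro hf
  have hT : IsPGroup p (translations p) := (isPGroup_unitri hp).to_le translations_le_unitri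
  obtain ⟨Q₀, hQ₀, hQ₀T⟩ := exists_pGroup_map_eq f hf _ hT
  set M := (translations p).comap f with hM
  obtain ⟨P, hP⟩ := IsPGroup.exists_le_sylow
    (hQ₀.comap_of_injective M.subtype Subtype.val_injective)
  set N : Subgroup ↥K := Subgroup.normalizer
    ((P : Subgroup ↥M).map M.subtype : Set ↥K) with hN
  have hsup : N ⊔ M = ⊤ := Sylow.normalizer_sup_eq_top P
  have hne : ((P : Subgroup ↥M).map M.subtype).map K.subtype ≠ ⊥ := by
    intro h
    apply translations_ne_bot (p := p)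
    rw [← hQ₀T, eq_bot_iff]
    rintro _ ⟨x, hx, rfl⟩
    have hxM : x ∈ M := by
      rw [hM, Subgroup.mem_comap, ← hQ₀T]
      exact ⟨x, hx, rfl⟩
    have : (x : G) ∈ ((P : Subgroup ↥M).map M.subtype).map K.subtype :=
      ⟨x, ⟨⟨x, hxM⟩, hP hx, rfl⟩, rfl⟩
    rw [h, Subgroup.mem_bot] at this
    rw [show x = 1 from Subtype.ext this, map_one]
    exact Subgroup.one_mem _
  have hpgrp := hloc (((P : Subgroup ↥M).map M.subtype).map K.subtype) (N.map K.subtype)
    ((P.isPGroup'.map _).map _) hne (Subgroup.le_normalizer_map K.subtype)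
  rw [← Subgroup.map_commutator] at hpgrp
  have hN' : IsPGroup p ↥⁅N, N⁆ :=
    hpgrp.of_equiv ((⁅N, N⁆).equivMapOfInjective K.subtype Subtype.val_injective).symm
  have hlift : ∀ x : ↥(Cfsg.qd p), ∃ n ∈ N, block (f n) = block x := by
    intro x
    obtain ⟨k, rfl⟩ := hf x
    have hk : k ∈ N ⊔ M := by
      rw [hsup]
      exact Subgroup.mem_top k
    rw [sup_comm, Subgroup.mem_sup_of_normal_left] at hk
    obtain ⟨m, hm, n, hn, rfl⟩ := hk
    refine ⟨n, hn, ?_⟩
    have hbm : block (f m) = 1 := MonoidHom.mem_ker.1 hm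
    rw [map_mul, map_mul, hbm, one_mul]
  obtain ⟨x, y, hxy⟩ := exists_block_commutator hp
  obtain ⟨a, ha, hax⟩ := hlift x
  obtain ⟨b, hb, hby⟩ := hlift y
  let φ : ↥(Cfsg.qd p) →* (Matrix (Fin 2) (Fin 2) (ZMod p))ˣ := block.toHomUnits
  have hax' : φ (f a) = φ x := Units.ext hax
  have hby' : φ (f b) = φ y := Units.ext hby
  obtain ⟨k, hk⟩ := hN' ⟨⁅a, b⁆, Subgroup.commutator_mem_commutator ha hb⟩
  have hk' := congrArg (fun z : ↥⁅N, N⁆ => ((φ (f z.1) : (Matrix (Fin 2) (Fin 2) (ZMod p))ˣ) :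
    Matrix (Fin 2) (Fin 2) (ZMod p))) hk
  simp only [SubmonoidClass.coe_pow, map_pow, Units.val_pow_eq_pow_val, OneMemClass.coe_one,
    map_one, Units.val_one] at hk'
  have hc : ((φ (f ⁅a, b⁆) : (Matrix (Fin 2) (Fin 2) (ZMod p))ˣ) :
      Matrix (Fin 2) (Fin 2) (ZMod p)) = -1 := by
    rw [← hxy, map_commutatorElement, map_commutatorElement, hax', hby', ← map_commutatorElement]
    rfl
  rw [hc] at hk'
  have hodd : Odd (p ^ k) := ((Fact.out : p.Prime).odd_of_ne_two hp).pow
  rw [hodd.neg_one_pow] at hk'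
  have h2 := congrFun (congrFun hk' 0) 0
  simp only [Matrix.neg_apply, Matrix.one_apply_eq] at h2
  have : Fact (2 < p) := ⟨lt_of_le_of_ne (Fact.out : p.Prime).two_le (Ne.symm hp)⟩
  exact ZMod.neg_one_ne_one h2

end Qd

end CfsgLib.QdFree
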